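import Groth.Agent.QCPull13.Generic
import Groth.Agent.AlgSpDec.EtPullRestrict

/-!
# Quasi-coherent modules on small etale sites: pullback, and descent from a chart
-/

set_option autoImplicit false
set_option backward.isDefEq.respectTransparency false
set_option backward.isDefEq.respectTransparency.types false

noncomputable section

universe u

open CategoryTheory CategoryTheory.Limits AlgebraicGeometry Opposite AlgSp

namespace Groth.Agent.QCPull13

variable {S : Scheme.{u}} {X Y : Sp S} {f : X ⟶ Y} (hrep : Representable f)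

/-- Base change of a product is the product of the base changes. -/
def bcProdIsLimit (E₁ E₂ : EtOver Y) :
    IsLimit (BinaryFan.mk ((EtOver.bc hrep).map (EtOver.prodFst E₁ E₂))
      ((EtOver.bc hrep).map (EtOver.prodSnd E₁ E₂))) := by
  let t₁ : ∀ {T : EtOver X}, (T ⟶ EtOver.bcObj hrep E₁) → (T.obj.left ⟶ E₁.obj.left) :=
    fun k => k.hom.left ≫ hrep.snd E₁.obj.hom
  let t₂ : ∀ {T : EtOver X}, (T ⟶ EtOver.bcObj hrep E₂) → (T.obj.left ⟶ E₂.obj.left) :=
    fun k => k.hom.left ≫ hrep.snd E₂.obj.hom
  have key : ∀ {T : EtOver X} (E : EtOver Y) (k : T ⟶ EtOver.bcObj hrep E),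
      (yon S).map (k.hom.left ≫ hrep.snd E.obj.hom) ≫ E.obj.hom = T.obj.hom ≫ f := by
    intro T E k
    rw [Functor.map_comp, Category.assoc, ← hrep.w, ← Category.assoc]
    exact congrArg (· ≫ f) (EtOver.w k)
  refine BinaryFan.IsLimit.mk _
    (fun {T} a b => EtOver.homMk (hrep.lift T.obj.hom
      (E₂.property.1.lift' (t₂ b) (t₁ a) ((key E₂ b).trans (key E₁ a).symm)) (by
        change T.obj.hom ≫ f = (yon S).map _ ≫ (yon S).map _ ≫ E₁.obj.hom
        rw [← Category.assoc, ← Functor.map_comp, Functor.relativelyRepresentable.lift'_snd, key E₁ a]))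
      (hrep.lift_fst _ _ _)) ?_ ?_ ?_
  · intro T a b
    refine EtOver.hom_ext _ _ (hrep.hom_ext ?_ ?_)
    · exact (EtOver.w _).trans (EtOver.w a).symm
    · change (_ ≫ (EtOver.bcMap hrep (EtOver.prodFst E₁ E₂)).hom.left) ≫ _ = _
      rw [Category.assoc, EtOver.bcMap_snd, ← Category.assoc]
      exact (congrArg (· ≫ _) (hrep.lift_snd _ _ _)).trans
        (Functor.relativelyRepresentable.lift'_snd _ _ _ _)
  · intro T a b
    refine EtOver.hom_ext _ _ (hrep.hom_ext ?_ ?_)
    · exact (EtOver.w _).trans (EtOver.w b).symm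
    · change (_ ≫ (EtOver.bcMap hrep (EtOver.prodSnd E₁ E₂)).hom.left) ≫ _ = _
      rw [Category.assoc, EtOver.bcMap_snd, ← Category.assoc]
      exact (congrArg (· ≫ _) (hrep.lift_snd _ _ _)).trans
        (Functor.relativelyRepresentable.lift'_fst _ _ _ _)
  · intro T a b m h₁ h₂
    refine EtOver.hom_ext _ _ (hrep.hom_ext ?_ ?_)
    · exact (EtOver.w m).trans (hrep.lift_fst _ _ _).symm
    · refine (E₂.property.1.hom_ext' ?_ ?_).trans (hrep.lift_snd _ _ _).symm
      · rw [Functor.relativelyRepresentable.lift'_fst]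
        subst h₂
        change (m.hom.left ≫ hrep.snd (EtOver.prodObj E₁ E₂).obj.hom) ≫ (EtOver.prodSnd E₁ E₂).hom.left =
          (m.hom.left ≫ (EtOver.bcMap hrep (EtOver.prodSnd E₁ E₂)).hom.left) ≫ hrep.snd E₂.obj.hom
        rw [Category.assoc, Category.assoc, EtOver.bcMap_snd]
      · rw [Functor.relativelyRepresentable.lift'_snd]
        subst h₁
        change (m.hom.left ≫ hrep.snd (EtOver.prodObj E₁ E₂).obj.hom) ≫ (EtOver.prodFst E₁ E₂).hom.left =
          (m.hom.left ≫ (EtOver.bcMap hrep (EtOver.prodFst E₁ E₂)).hom.left) ≫ hrep.snd E₁.obj.hom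
        rw [Category.assoc, Category.assoc, EtOver.bcMap_snd]

theorem isIso_prodComparison_bc (E W : EtOver Y) : IsIso (prodComparison (EtOver.bc hrep) E W) := by
  haveI : PreservesLimit (pair E W) (EtOver.bc hrep) :=
    preservesLimit_of_preserves_limit_cone (EtOver.prodIsLimit E W)
      ((isLimitMapConeBinaryFanEquiv _ _ _).symm (bcProdIsLimit hrep E W))
  infer_instance

theorem isContinuous_overPost_bc (E : EtOver Y) :
    (Over.post (X := E) (EtOver.bc hrep)).IsContinuous ((etTop Y).over E)
      ((etTop X).over ((EtOver.bc hrep).obj E)) := by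
  haveI : PreservesLimitsOfShape WalkingCospan
      (Over.post (X := E) (EtOver.bc hrep) ⋙ Over.forget ((EtOver.bc hrep).obj E)) :=
    preservesLimitsOfShape_of_natIso (F := Over.forget E ⋙ EtOver.bc hrep) (Iso.refl _)
  haveI : PreservesLimitsOfShape WalkingCospan (Over.post (X := E) (EtOver.bc hrep)) :=
    preservesLimitsOfShape_of_reflects_of_preserves _ (Over.forget ((EtOver.bc hrep).obj E))
  unfold etTop
  rw [over_toGrothendieck_eq_toGrothendieck_comap_forget,
    over_toGrothendieck_eq_toGrothendieck_comap_forget]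
  refine Functor.isContinuous_toGrothendieck_of_pullbacksPreservedBy _ _ _ ?_
  rw [← Precoverage.comap_comp, Over.post_forget_eq_forget_comp, Precoverage.comap_comp]
  exact Precoverage.comap_monotone (EtOver.etPre_le_comap_bc hrep)

/-- Base change takes covering sieves to covering sieves. -/
theorem coverPreserving_bc : CoverPreserving (etTop Y) (etTop X) (EtOver.bc hrep) where
  cover_preserve {E T} hT := by
    unfold etTop at hT
    obtain ⟨R, hR, hle⟩ := Precoverage.mem_toGrothendieck_iff_of_isStableUnderComposition.1 hT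
    refine GrothendieckTopology.superset_covering _ ?_
      (Precoverage.generate_mem_toGrothendieck (EtOver.etPre_le_comap_bc hrep _ hR))
    rw [Sieve.generate_le_iff]
    rintro _ _ ⟨hg⟩
    exact Sieve.image_mem_functorPushforward (EtOver.bc hrep) T (hle _ _ hg)

/-- A surjective etale chart covers the final object of the small etale site. -/
theorem coversTop_chart (E₀ : EtOver X) (hs : RepWith @Surjective E₀.obj.hom) :
    (etTop X).CoversTop fun _ : PUnit.{1} => E₀ := by
  intro W
  refine GrothendieckTopology.superset_covering _ ?_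
    (ofArrows_mem_etTop (fun _ : PUnit.{1} => EtOver.prodObj W E₀) (fun _ => EtOver.prodFst W E₀)
      fun x => ?_)
  · rw [Sieve.ofArrows, Sieve.generate_le_iff]
    rintro _ _ ⟨i⟩
    exact ⟨i, ⟨EtOver.prodSnd W E₀⟩⟩
  · haveI : Surjective (E₀.property.1.snd W.obj.hom).left :=
      hs.2 W.obj.hom _ _ (E₀.property.1.isPullback W.obj.hom)
    exact ⟨⟨⟩, (E₀.property.1.snd W.obj.hom).left.surjective x⟩

theorem isQuasicoherent_pullModEt [(SheafOfModules.pushforward.{u + 1} (bcRingHom hrep)).IsRightAdjoint]
    {U : Over S} (p : (yon S).obj U ⟶ Y) (hp : RepWith @Etale p) (hs : RepWith @Surjective p)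
    (G : ModEt Y) (hG : G.IsQuasicoherent) : ((pullModEt hrep).obj G).IsQuasicoherent := by
  obtain ⟨⟨q⟩⟩ := hG
  have P : ∀ i, Nonempty (((pullModEt hrep).obj G).over ((EtOver.bc hrep).obj (q.X i))).Presentation :=
    fun i => by
      haveI := isContinuous_overPost_bc hrep (q.X i)
      haveI := isIso_prodComparison_bc hrep (q.X i)
      exact nonempty_presentation_pullback_over (bcRingHom hrep) (q.X i) (q.presentation i)
  refine SheafOfModules.QuasicoherentData.isQuasicoherent
    (M := (pullModEt hrep).obj G)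
    { I := q.I
      X := fun i => (EtOver.bc hrep).obj (q.X i)
      coversTop := coversTop_map _ (coverPreserving_bc hrep) q.coversTop (EtOver.mk p hp)
        (coversTop_chart _ ?_)
      presentation := fun i => (P i).some }
  exact (repWith_isStableUnderBaseChange (S := S) @Surjective).of_isPullback
    (hrep.isPullback p).flip hs

end Groth.Agent.QCPull13

end
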