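import Groth.Agent.QCPull13.Space

/-!
# Quasi-coherence descends from a surjective etale chart
-/

set_option autoImplicit false
set_option backward.isDefEq.respectTransparency false
set_option backward.isDefEq.respectTransparency.types false

noncomputable section

universe u v₁ v₂ u₁ u₂

open CategoryTheory CategoryTheory.Limits AlgebraicGeometry Opposite AlgSp

namespace Groth.Agent.QCPull13

section Equivalence

variable {C : Type u₁} [Category.{v₁} C] {D : Type u₂} [Category.{v₂} D]
  {J : GrothendieckTopology C} {K : GrothendieckTopology D}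
  {S : Sheaf J RingCat.{u}} {R : Sheaf K RingCat.{u}} (e : C ≌ D)
  [Functor.IsContinuous e.functor J K] [Functor.IsContinuous e.inverse K J]
  (φ : S ⟶ (e.functor.sheafPushforwardContinuous RingCat.{u} J K).obj R)

/-- Direct image along an equivalence of sites and an isomorphism of rings is fully faithful. -/
theorem bijective_pushforward_map [∀ W, IsIso (φ.hom.app W)] (L M : SheafOfModules.{u} R) :
    Function.Bijective fun g : L ⟶ M => (SheafOfModules.pushforward.{u} φ).map g := by
  let ψ : R ⟶ (e.inverse.sheafPushforwardContinuous RingCat.{u} K J).obj S :=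
    ObjectProperty.homMk
      { app := fun W => R.obj.map (e.counit.app W.unop).op ≫ inv (φ.hom.app (op (e.inverse.obj W.unop)))
        naturality := fun W W' g => by
          have hn := φ.hom.naturality (e.inverse.map g.unop).op
          have hc : e.functor.map (e.inverse.map g.unop) ≫ e.counit.app W.unop =
              e.counit.app W'.unop ≫ g.unop := e.counit.naturality g.unop
          have hc' : R.obj.map g ≫ R.obj.map (e.counit.app W'.unop).op =
              R.obj.map (e.counit.app W.unop).op ≫ R.obj.map (e.functor.map (e.inverse.map g.unop)).op := by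
            rw [← Functor.map_comp, ← Functor.map_comp, ← op_comp, hc, op_comp, Quiver.Hom.op_unop]
          change R.obj.map g ≫ R.obj.map (e.counit.app W'.unop).op ≫ inv (φ.hom.app _) =
            (R.obj.map (e.counit.app W.unop).op ≫ inv (φ.hom.app _)) ≫
              S.obj.map (e.inverse.map g.unop).op
          rw [reassoc_of% hc', Category.assoc]
          congr 1
          rw [IsIso.comp_inv_eq, Category.assoc, IsIso.eq_inv_comp]
          exact hn.symm }
  let E := SheafOfModules.pushforwardPushforwardEquivalence.{u} e φ ψ
    (by
      ext W : 2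
      change R.obj.map (e.counit.app W.unop).op =
        (R.obj.map (e.counit.app W.unop).op ≫ inv (φ.hom.app _)) ≫ φ.hom.app _
      rw [Category.assoc, IsIso.inv_hom_id, Category.comp_id])
    (by
      ext W : 2
      change φ.hom.app W ≫ (R.obj.map (e.counit.app (e.functor.obj W.unop)).op ≫
        inv (φ.hom.app (op (e.inverse.obj (e.functor.obj W.unop))))) ≫
          S.obj.map (e.unit.app W.unop).op = 𝟙 (S.obj.obj W)
      have hn := φ.hom.naturality (e.unit.app W.unop).op
      have hu : e.functor.map (e.unit.app W.unop) ≫ e.counit.app (e.functor.obj W.unop) = 𝟙 _ :=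
        e.functor_unit_comp W.unop
      have h2 : inv (φ.hom.app (op (e.inverse.obj (e.functor.obj W.unop)))) ≫
          S.obj.map (e.unit.app W.unop).op =
          R.obj.map (e.functor.map (e.unit.app W.unop)).op ≫ inv (φ.hom.app W) := by
        rw [IsIso.eq_comp_inv, Category.assoc, IsIso.inv_comp_eq]
        exact hn
      rw [Category.assoc, h2, ← Category.assoc (R.obj.map _), ← Functor.map_comp, ← op_comp, hu,
        op_id]
      erw [CategoryTheory.Functor.map_id, Category.id_comp]
      exact IsIso.hom_inv_id _)
  exact ⟨fun g g' h => E.functor.map_injective h, fun h => E.functor.map_surjective h⟩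

end Equivalence

variable {S : Scheme.{u}} {X Y : Sp S} {f : X ⟶ Y} (hf : IsEtaleMor f)

/-- A slice of the small etale site of an etale space is a slice of the site below. -/
theorem isEquivalence_overPost (E : EtOver X) :
    (Over.post (X := E) (EtOver.postcomp f hf)).IsEquivalence where
  faithful := ⟨fun {A B} g h hh => Over.OverMorphism.ext (EtOver.hom_ext _ _
    (congrArg (fun k => k.left.hom.left) hh :))⟩
  full := ⟨fun {A B} k => ⟨Over.homMk (EtOver.homMk k.left.hom.left (by
      have h : k.left.hom.left ≫ B.hom.hom.left = A.hom.hom.left :=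
        congrArg (fun m => m.hom.left) (Over.w k)
      rw [← EtOver.w B.hom, ← EtOver.w A.hom, ← h, Functor.map_comp, Category.assoc]))
    (EtOver.hom_ext _ _ (congrArg (fun m => m.hom.left) (Over.w k) :)),
    Over.OverMorphism.ext (EtOver.hom_ext _ _ rfl)⟩⟩
  essSurj := ⟨fun A => ⟨Over.mk (EtOver.homMk (E := EtOver.mk ((yon S).map A.hom.hom.left ≫ E.obj.hom)
      ((repWith_isMultiplicative (S := S) @Etale).comp_mem _ _
        ((repWith_yon_map_iff _ _).2 (EtOver.etale_left A.hom)) E.property)) A.hom.hom.left rfl),
    ⟨Over.isoMk
      { hom := EtOver.homMk (𝟙 _) (by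
          change (yon S).map (𝟙 _) ≫ A.left.obj.hom = ((yon S).map A.hom.hom.left ≫ E.obj.hom) ≫ f
          rw [CategoryTheory.Functor.map_id, Category.id_comp, Category.assoc]
          exact (EtOver.w A.hom).symm)
        inv := EtOver.homMk (𝟙 _) (by
          change (yon S).map (𝟙 _) ≫ ((yon S).map A.hom.hom.left ≫ E.obj.hom) ≫ f = A.left.obj.hom
          rw [CategoryTheory.Functor.map_id, Category.id_comp, Category.assoc]
          exact EtOver.w A.hom)
        hom_inv_id := EtOver.hom_ext _ _ (Category.id_comp _)
        inv_hom_id := EtOver.hom_ext _ _ (Category.id_comp _) }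
      (EtOver.hom_ext _ _ (Category.id_comp _))⟩⟩⟩

theorem coverPreserving_postcomp : CoverPreserving (etTop X) (etTop Y) (EtOver.postcomp f hf) where
  cover_preserve {E T} hT := by
    unfold etTop at hT
    obtain ⟨R, hR, hle⟩ := Precoverage.mem_toGrothendieck_iff_of_isStableUnderComposition.1 hT
    have hR' : Presieve.map (EtOver.postcomp f hf) R ∈ etPre Y ((EtOver.postcomp f hf).obj E) := by
      obtain ⟨ι, Z, g, rfl⟩ := R.exists_eq_ofArrows
      rw [Presieve.map_ofArrows]
      exact (ofArrows_mem_etPre_iff _ _).2 ((ofArrows_mem_etPre_iff _ _).1 hR :)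
    refine GrothendieckTopology.superset_covering _ ?_ (Precoverage.generate_mem_toGrothendieck hR')
    rw [Sieve.generate_le_iff]
    rintro _ _ ⟨hg⟩
    exact Sieve.image_mem_functorPushforward (EtOver.postcomp f hf) T (hle _ _ hg)

/-- Quasi-coherence is detected by a surjective etale chart. -/
theorem isQuasicoherent_of_pullModEt_chart {U : Over S} (p : (yon S).obj U ⟶ Y) (hrep : Representable p)
    (hp : RepWith @Etale p) (hs : RepWith @Surjective p)
    [(SheafOfModules.pushforward.{u + 1} (bcRingHom hrep)).IsRightAdjoint]
    (F : ModEt Y) (hF : ((pullModEt hrep).obj F).IsQuasicoherent) : F.IsQuasicoherent := by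
  have hp' : IsEtaleMor p := isEtaleMor_of_repWith p hp
  let P := EtOver.postcomp p hp'
  let φ := AlgSpDec.EtPullRestrict.φ hp'
  haveI := AlgSpDec.PostcompSite.isContinuous p hp'
  haveI := AlgSpDec.PostcompSite.isCocontinuous p hp'
  haveI hcl : (SheafOfModules.isQuasicoherent (OEtRing ((yon S).obj U))).IsClosedUnderIsomorphisms :=
    inferInstance
  have hN : ((SheafOfModules.pushforward.{u + 1} φ).obj F).IsQuasicoherent :=
    (SheafOfModules.isQuasicoherent (OEtRing ((yon S).obj U))).prop_of_iso
      (((AlgSpDec.EtPullRestrict.modAdj hrep hp').leftAdjointUniq (pullPushAdjModEt hrep)).app F).symm hF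
  obtain ⟨⟨q⟩⟩ := hN
  have key : ∀ i, Nonempty (F.over (P.obj (q.X i))).Presentation := fun i => by
    let G := Over.post (X := q.X i) P
    haveI : G.IsEquivalence := isEquivalence_overPost hp' (q.X i)
    haveI : G.IsCocontinuous ((etTop _).over (q.X i)) ((etTop Y).over (P.obj (q.X i))) := inferInstance
    haveI : G.asEquivalence.functor.IsCocontinuous ((etTop _).over (q.X i))
        ((etTop Y).over (P.obj (q.X i))) := inferInstanceAs (G.IsCocontinuous _ _)
    haveI hc : G.asEquivalence.inverse.IsContinuous ((etTop Y).over (P.obj (q.X i)))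
        ((etTop _).over (q.X i)) :=
      G.asEquivalence.toAdjunction.isContinuous_of_isCocontinuous _ _
    haveI hG : G.asEquivalence.inverse.IsCocontinuous ((etTop Y).over (P.obj (q.X i)))
        ((etTop _).over (q.X i)) :=
      (Adjunction.isCocontinuous_iff_coverPreserving _ _ G.asEquivalence.symm.toAdjunction).2
        ((coverPreserving_postcomp hp').overPost (q.X i))
    haveI : G.asEquivalence.symm.functor.IsCocontinuous ((etTop Y).over (P.obj (q.X i)))
        ((etTop _).over (q.X i)) := hG
    haveI : G.IsContinuous ((etTop _).over (q.X i)) ((etTop Y).over (P.obj (q.X i))) :=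
      G.asEquivalence.symm.toAdjunction.isContinuous_of_isCocontinuous _ _
    haveI : G.asEquivalence.functor.IsContinuous ((etTop _).over (q.X i))
        ((etTop Y).over (P.obj (q.X i))) := inferInstanceAs (G.IsContinuous _ _)
    haveI : G.Final := inferInstance
    haveI : ∀ W, IsIso ((sliceHom φ (q.X i)).hom.app W) := fun W => by
      change IsIso ((BigSite.ORing Scheme.etalePrecoverage S).obj.map (𝟙 W.unop.left.obj.left).op)
      infer_instance
    exact nonempty_presentation_of_universal (sliceHom φ (q.X i)) (q.presentation i)
      (𝟙 (((SheafOfModules.pushforward.{u + 1} φ).obj F).over (q.X i))) (L := F.over (P.obj (q.X i))) (fun M => by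
        have h := bijective_pushforward_map G.asEquivalence (sliceHom φ (q.X i)) (F.over (P.obj (q.X i))) M
        simp only [Category.id_comp]
        exact h)
  refine SheafOfModules.QuasicoherentData.isQuasicoherent (M := F)
    { I := q.I
      X := fun i => P.obj (q.X i)
      coversTop := coversTop_map P (coverPreserving_postcomp hp') q.coversTop
        (EtOver.mk (𝟙 _) (repWith_id @Etale U))
        (coversTop_chart _ (by
          change RepWith @Surjective (𝟙 _ ≫ p)
          rw [Category.id_comp]; exact hs))
      presentation := fun i => (key i).some }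

end Groth.Agent.QCPull13

end
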