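import Mathlib.Algebra.Category.ModuleCat.Sheaf.Quasicoherent
import Mathlib.Algebra.Category.ModuleCat.Sheaf.PullbackFree

/-!
# Pullback of quasi-coherent sheaves of modules along a morphism of ringed sites

If `N ⟶ F_* L` is a universal arrow, `F` is final and `N` has a presentation, then so does `L`.
For a continuous functor between sites with binary products which preserves them, restriction
to slices commutes with pullback in that sense, so that pullback preserves quasi-coherence.
-/

set_option autoImplicit false
set_option backward.isDefEq.respectTransparency false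
set_option backward.isDefEq.respectTransparency.types false

noncomputable section

universe u v₁ v₂ u₁ u₂

open CategoryTheory CategoryTheory.Limits Opposite

namespace Groth.Agent.QCPull13

section Universal

variable {C : Type u₁} [Category.{v₁} C] {D : Type u₂} [Category.{v₂} D]
  {J : GrothendieckTopology C} {K : GrothendieckTopology D} {F : C ⥤ D}
  {S : Sheaf J RingCat.{u}} {R : Sheaf K RingCat.{u}}
  [Functor.IsContinuous F J K]
  [HasSheafify J AddCommGrpCat.{u}] [J.WEqualsLocallyBijective AddCommGrpCat.{u}]
  [HasSheafify K AddCommGrpCat.{u}] [K.WEqualsLocallyBijective AddCommGrpCat.{u}]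
  (φ : S ⟶ (F.sheafPushforwardContinuous RingCat.{u} J K).obj R)

/-- The tautological map of a free module to the direct image of the free module. -/
def freeUnit (I : Type u) :
    SheafOfModules.free (R := S) I ⟶
      (SheafOfModules.pushforward.{u} φ).obj (SheafOfModules.free (R := R) I) :=
  (SheafOfModules.freeHomEquiv _).symm fun i =>
    SheafOfModules.pushforwardSections φ (SheafOfModules.freeSection i)

theorem bijective_freeUnit [F.Final] (I : Type u) (M : SheafOfModules.{u} R) :
    Function.Bijective fun y : SheafOfModules.free (R := R) I ⟶ M =>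
      freeUnit φ I ≫ (SheafOfModules.pushforward.{u} φ).map y := by
  refine (Equiv.comp_bijective _ (SheafOfModules.freeHomEquiv _)).1 ?_
  have h : (SheafOfModules.freeHomEquiv ((SheafOfModules.pushforward.{u} φ).obj M)) ∘
      (fun y : SheafOfModules.free (R := R) I ⟶ M =>
        freeUnit φ I ≫ (SheafOfModules.pushforward.{u} φ).map y) =
      (fun s : I → M.sections => fun i => SheafOfModules.pushforwardSections φ (s i)) ∘
        (SheafOfModules.freeHomEquiv M) := by
    funext y i
    simp only [Function.comp_apply]
    rw [SheafOfModules.freeHomEquiv_comp_apply, SheafOfModules.freeHomEquiv_apply y]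
    unfold freeUnit
    rw [Equiv.apply_symm_apply]
    rfl
  rw [h]
  exact (Function.Bijective.comp_left (SheafOfModules.bijective_pushforwardSections φ M)).comp
    (SheafOfModules.freeHomEquiv M).bijective

/-- A presentation passes along a universal arrow to a direct image along a final functor. -/
theorem nonempty_presentation_of_universal [F.Final] {N : SheafOfModules.{u} S}
    (P : N.Presentation) {L : SheafOfModules.{u} R}
    (η : N ⟶ (SheafOfModules.pushforward.{u} φ).obj L)
    (hη : ∀ M : SheafOfModules.{u} R, Function.Bijective fun g : L ⟶ M =>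
      η ≫ (SheafOfModules.pushforward.{u} φ).map g) :
    Nonempty L.Presentation := by
  let T := SheafOfModules.pushforward.{u} φ
  haveI : T.Additive := ⟨fun {_ _ _ _} => rfl⟩
  let rel := (SheafOfModules.freeHomEquiv _).symm P.relations.s ≫ kernel.ι P.generators.π
  have hrel : rel ≫ P.generators.π = 0 := by simp [rel]
  let hc : IsColimit (CokernelCofork.ofπ P.generators.π hrel) := P.isColimit
  obtain ⟨π, hπ⟩ := (bijective_freeUnit φ P.generators.I L).2 (P.generators.π ≫ η)
  obtain ⟨ψ, hψ⟩ := (bijective_freeUnit φ P.relations.I
    (SheafOfModules.free (R := R) P.generators.I)).2 (rel ≫ freeUnit φ P.generators.I)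
  dsimp only at hπ hψ
  have key : ∀ {M : SheafOfModules.{u} R} (y : SheafOfModules.free (R := R) P.generators.I ⟶ M),
      freeUnit φ P.relations.I ≫ T.map (ψ ≫ y) =
        rel ≫ (freeUnit φ P.generators.I ≫ T.map y) := by
    intro M y
    rw [T.map_comp, ← Category.assoc, hψ, Category.assoc]
  have zero : ψ ≫ π = 0 := by
    apply (bijective_freeUnit φ P.relations.I L).1
    dsimp only
    rw [key π, hπ, reassoc_of% hrel, zero_comp, Functor.map_zero, comp_zero]
  refine ⟨SheafOfModules.presentationOfIsCokernelFree ψ π zero ?_⟩
  have fac : ∀ {M : SheafOfModules.{u} R} (y : SheafOfModules.free (R := R) P.generators.I ⟶ M),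
      ψ ≫ y = 0 → ∃ g : L ⟶ M, π ≫ g = y := by
    intro M y hy
    have h0 : rel ≫ (freeUnit φ P.generators.I ≫ T.map y) = 0 := by
      rw [← key y, hy, Functor.map_zero, comp_zero]
    obtain ⟨g, hg⟩ := (hη M).2 (hc.desc (CokernelCofork.ofπ _ h0))
    refine ⟨g, (bijective_freeUnit φ P.generators.I M).1 ?_⟩
    dsimp only at hg ⊢
    rw [Functor.map_comp, reassoc_of% hπ, hg]
    exact hc.fac (CokernelCofork.ofπ _ h0) WalkingParallelPair.one
  haveI : Epi P.generators.π := P.generators.epi
  refine CokernelCofork.IsColimit.ofπ π zero (fun y hy => (fac y hy).choose)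
    (fun y hy => (fac y hy).choose_spec) ?_
  intro M y hy m hm
  apply (hη M).1
  apply (cancel_epi P.generators.π).1
  have h1 : freeUnit φ P.generators.I ≫ T.map (π ≫ m) =
      freeUnit φ P.generators.I ≫ T.map (π ≫ (fac y hy).choose) := by
    rw [hm, (fac y hy).choose_spec]
  rw [T.map_comp, T.map_comp, reassoc_of% hπ, reassoc_of% hπ] at h1
  exact h1

end Universal

/-- A functor with a terminal object taken to a terminal object is final. -/
theorem final_of_terminal {C : Type u₁} [Category.{v₁} C] {D : Type u₂} [Category.{v₂} D]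
    (F : C ⥤ D) {T : C} (hT : IsTerminal T) (hFT : IsTerminal (F.obj T)) : F.Final where
  out d := by
    haveI : Nonempty (StructuredArrow d F) := ⟨StructuredArrow.mk (hFT.from d)⟩
    refine zigzag_isConnected fun a b => ?_
    have h : ∀ a : StructuredArrow d F,
        Zigzag a (StructuredArrow.mk (hFT.from d) : StructuredArrow d F) :=
      fun a => Zigzag.of_hom (StructuredArrow.homMk (hT.from a.right) (hFT.hom_ext _ _))
    exact (h a).trans (h b).symm

theorem final_overPost {C : Type u₁} [Category.{v₁} C] {D : Type u₂} [Category.{v₂} D]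
    (F : C ⥤ D) (E : C) : (Over.post (X := E) F).Final :=
  final_of_terminal _ Over.mkIdTerminal
    (Over.mkIdTerminal.ofIso (Over.isoMk (Iso.refl _) (by
      change 𝟙 _ ≫ F.map (𝟙 E) = 𝟙 _
      simp)))

section Slice

variable {C : Type u₁} [Category.{v₁} C] {D : Type u₂} [Category.{v₂} D]
  {J : GrothendieckTopology C} {K : GrothendieckTopology D} {F : C ⥤ D}
  {S : Sheaf J RingCat.{u}} {R : Sheaf K RingCat.{u}}
  [Functor.IsContinuous F J K]
  (φ : S ⟶ (F.sheafPushforwardContinuous RingCat.{u} J K).obj R)
  (E : C) [Functor.IsContinuous (Over.post (X := E) F) (J.over E) (K.over (F.obj E))]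

/-- The map of sheaves of rings on the slices. -/
def sliceHom :
    S.over E ⟶ ((Over.post (X := E) F).sheafPushforwardContinuous RingCat.{u} (J.over E)
      (K.over (F.obj E))).obj (R.over (F.obj E)) :=
  ((Over.forget E).sheafPushforwardContinuous RingCat.{u} (J.over E) J).map φ

/-- The direct image on the slices. -/
abbrev slicePush : SheafOfModules.{u} (R.over (F.obj E)) ⥤ SheafOfModules.{u} (S.over E) :=
  SheafOfModules.pushforward.{u} (sliceHom φ E)

/-- The unit of the pullback, restricted to a slice. -/
def sliceUnit [(SheafOfModules.pushforward.{u} φ).IsRightAdjoint] (G : SheafOfModules.{u} S) :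
    G.over E ⟶ (slicePush φ E).obj (((SheafOfModules.pullback.{u} φ).obj G).over (F.obj E)) :=
  (SheafOfModules.overFunctor S E).map
    ((SheafOfModules.pullbackPushforwardAdjunction.{u} φ).unit.app G)

variable [HasBinaryProducts C] [HasBinaryProducts D]

/-- The transformation from the slice counit. -/
def sliceTheta (M : SheafOfModules.{u} (R.over (F.obj E))) :
    (SheafOfModules.overFunctor S E).obj ((SheafOfModules.pushforward.{u} φ).obj
      ((SheafOfModules.pushforward.{u} (SheafOfModules.pushforwardOver (R := R) (F.obj E))).obj M)) ⟶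
      (slicePush φ E).obj M :=
  (slicePush φ E).map ((SheafOfModules.overPushforwardOverAdj (R := R) (F.obj E)).counit.app M)

/-- The comparison of the two direct images. -/
def sliceKappa (M : SheafOfModules.{u} (R.over (F.obj E))) :
    (SheafOfModules.pushforward.{u} φ).obj
      ((SheafOfModules.pushforward.{u} (SheafOfModules.pushforwardOver (R := R) (F.obj E))).obj M) ⟶
    (SheafOfModules.pushforward.{u} (SheafOfModules.pushforwardOver (R := S) E)).obj
      ((slicePush φ E).obj M) :=
  (SheafOfModules.overPushforwardOverAdj (R := S) E).homEquiv _ _ (sliceTheta φ E M)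

theorem isIso_sliceKappa [∀ W, IsIso (prodComparison F E W)]
    (M : SheafOfModules.{u} (R.over (F.obj E))) : IsIso (sliceKappa φ E M) := by
  haveI : (SheafOfModules.forget.{u} S ⋙ PresheafOfModules.toPresheaf _).ReflectsIsomorphisms :=
    inferInstance
  suffices h : IsIso ((SheafOfModules.forget.{u} S ⋙ PresheafOfModules.toPresheaf _).map
      (sliceKappa φ E M)) from
    isIso_of_reflects_iso _ (SheafOfModules.forget.{u} S ⋙ PresheafOfModules.toPresheaf _)
  rw [NatTrans.isIso_iff_isIso_app]
  intro W
  let a : (Over.post (X := E) F).obj ((Over.star E).obj W.unop) ⟶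
      (Over.star (F.obj E)).obj (F.obj W.unop) :=
    (Over.forgetAdjStar (F.obj E)).unit.app _ ≫
      (Over.star (F.obj E)).map (F.map ((Over.forgetAdjStar E).counit.app W.unop))
  have ha : a.left = prodComparison F E W.unop := by
    apply prod.hom_ext
    · simp [a]
    · simp [a]
      exact Category.id_comp _
  haveI : IsIso ((Over.forget _).map a) := by
    change IsIso a.left
    rw [ha]; infer_instance
  haveI : IsIso a := isIso_of_reflects_iso a (Over.forget _)
  have h : ((SheafOfModules.forget.{u} S ⋙ PresheafOfModules.toPresheaf _).map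
      (sliceKappa φ E M)).app W = M.val.presheaf.map a.op := by
    simp only [a, op_comp, Functor.map_comp]
    rfl
  rw [h]
  infer_instance

theorem bijective_sliceUnit [∀ W, IsIso (prodComparison F E W)]
    [(SheafOfModules.pushforward.{u} φ).IsRightAdjoint] (G : SheafOfModules.{u} S)
    (M : SheafOfModules.{u} (R.over (F.obj E))) :
    Function.Bijective fun g : ((SheafOfModules.pullback.{u} φ).obj G).over (F.obj E) ⟶ M =>
      sliceUnit φ E G ≫ (slicePush φ E).map g := by
  haveI := isIso_sliceKappa φ E M
  let AD := SheafOfModules.overPushforwardOverAdj.{u} (R := R) (F.obj E)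
  let AC := SheafOfModules.overPushforwardOverAdj.{u} (R := S) E
  let A := SheafOfModules.pullbackPushforwardAdjunction.{u} φ
  let e := (AD.homEquiv ((SheafOfModules.pullback.{u} φ).obj G) M).trans
    ((A.homEquiv G _).trans (((asIso (sliceKappa φ E M)).homToEquiv (Z := G)).trans
      (AC.homEquiv G ((slicePush φ E).obj M)).symm))
  suffices h : (fun g : ((SheafOfModules.pullback.{u} φ).obj G).over (F.obj E) ⟶ M =>
      sliceUnit φ E G ≫ (slicePush φ E).map g) = e by
    rw [h]; exact e.bijective
  funext g
  change _ = (AC.homEquiv G _).symm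
    (A.homEquiv G _ (AD.homEquiv _ M g) ≫ sliceKappa φ E M)
  rw [AC.homEquiv_naturality_left_symm]
  unfold sliceKappa
  rw [Equiv.symm_apply_apply, A.homEquiv_unit, Functor.map_comp]
  change _ = (sliceUnit φ E G ≫ (slicePush φ E).map ((SheafOfModules.overFunctor R (F.obj E)).map
    (AD.homEquiv _ M g))) ≫ sliceTheta φ E M
  unfold sliceTheta
  rw [Category.assoc, ← Functor.map_comp]
  congr 2
  exact ((AD.homEquiv_counit (X := _) (Y := _) (g := AD.homEquiv _ M g)).symm.trans
    (Equiv.symm_apply_apply _ g)).symm

theorem nonempty_presentation_pullback_over [∀ W, IsIso (prodComparison F E W)]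
    [(SheafOfModules.pushforward.{u} φ).IsRightAdjoint]
    [∀ X, HasSheafify (J.over X) AddCommGrpCat.{u}]
    [∀ X, (J.over X).WEqualsLocallyBijective AddCommGrpCat.{u}]
    [∀ X, HasSheafify (K.over X) AddCommGrpCat.{u}]
    [∀ X, (K.over X).WEqualsLocallyBijective AddCommGrpCat.{u}]
    {G : SheafOfModules.{u} S} (P : (G.over E).Presentation) :
    Nonempty (((SheafOfModules.pullback.{u} φ).obj G).over (F.obj E)).Presentation :=
  haveI := final_overPost F E
  nonempty_presentation_of_universal (sliceHom φ E) P (sliceUnit φ E G)
    (bijective_sliceUnit φ E G)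

end Slice

/-- Images of a family covering the top cover the top, if the image of one object does and the
functor takes covering sieves to covering sieves. -/
theorem coversTop_map {C : Type u₁} [Category.{v₁} C] {D : Type u₂} [Category.{v₂} D]
    {J : GrothendieckTopology C} {K : GrothendieckTopology D} (F : C ⥤ D)
    (hF : CoverPreserving J K F) {I : Type*} {X : I → C} (hX : J.CoversTop X) (E₀ : C)
    (hE₀ : K.CoversTop fun _ : PUnit.{1} => F.obj E₀) : K.CoversTop fun i => F.obj (X i) := by
  intro W
  refine K.transitive (hE₀ W) _ fun Z f hf => ?_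
  obtain ⟨_, ⟨k⟩⟩ := hf
  refine K.superset_covering ?_ (K.pullback_stable k (hF.cover_preserve (hX E₀)))
  intro Z' g hg
  obtain ⟨C', g', h, hg', hgk⟩ := hg
  obtain ⟨i, ⟨w⟩⟩ := hg'
  exact ⟨i, ⟨h ≫ F.map w⟩⟩

end Groth.Agent.QCPull13

end
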